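import Mathlib
import Groth.Agent.GrpSch.Homogeneous

/-!
# Products with the spectrum of a directed colimit of finite products of the ground field
-/

set_option autoImplicit false

universe u

open CategoryTheory CategoryTheory.Limits AlgebraicGeometry TensorProduct

namespace Groth.Agent.ProfinAlg

variable {k : Type u} [Field k] {A : Type u} [CommRing A] [Algebra k A]

/-- near a prime every finite set of elements is constant -/
theorem exists_idem (hA : ∀ s : Finset A, ∃ (B : Subalgebra k A) (n : ℕ), (↑s : Set A) ⊆ (B : Set A) ∧ Nonempty (B ≃ₐ[k] (Fin n → k)))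
    (a : Ideal A) [a.IsPrime] (s : Finset A) :
    ∃ (e : A) (c : A → k), e ∉ a ∧ ∀ z ∈ s, e * (z - algebraMap k A (c z)) = 0 := by
  classical
  obtain ⟨B, n, hs, ⟨φ⟩⟩ := hA s
  let v : Fin n → B := fun i => φ.symm (Pi.single i 1)
  have hsum : ∑ i, v i = 1 := by
    rw [← map_sum, Finset.univ_sum_single, ← map_one φ.symm]
    rfl
  obtain ⟨i, hi⟩ : ∃ i, (v i : A) ∉ a := by
    by_contra! h
    refine (Ideal.IsPrime.ne_top ‹_›) ((Ideal.eq_top_iff_one a).2 ?_)
    have : ((∑ i, v i : B) : A) ∈ a := by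
      rw [AddSubmonoidClass.coe_finset_sum]; exact a.sum_mem fun i _ => h i
    rwa [hsum] at this
  refine ⟨v i, fun z => if hz : z ∈ B then φ ⟨z, hz⟩ i else 0, hi, fun z hz => ?_⟩
  have hzB : z ∈ B := hs hz
  simp only [dif_pos hzB]
  have key : v i * (⟨z, hzB⟩ - algebraMap k B (φ ⟨z, hzB⟩ i)) = 0 := by
    apply φ.injective
    rw [map_mul, map_sub, AlgEquiv.commutes, map_zero, AlgEquiv.apply_symm_apply]
    funext j
    by_cases hj : j = i
    · subst hj; simp
    · simp [Pi.single_eq_of_ne hj]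
  have := congrArg Subtype.val key
  simpa using this

theorem exists_point (hA : ∀ s : Finset A, ∃ (B : Subalgebra k A) (n : ℕ), (↑s : Set A) ⊆ (B : Set A) ∧ Nonempty (B ≃ₐ[k] (Fin n → k)))
    (a : PrimeSpectrum A) : ∃ ρ : A →ₐ[k] k, RingHom.ker ρ = a.asIdeal := by
  have hbij : Function.Bijective (algebraMap k (A ⧸ a.asIdeal)) := by
    refine ⟨(algebraMap k (A ⧸ a.asIdeal)).injective, fun y => ?_⟩
    obtain ⟨z, rfl⟩ := Ideal.Quotient.mk_surjective y
    obtain ⟨e, c, he, hc⟩ := exists_idem hA a.asIdeal {z}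
    refine ⟨c z, (Ideal.Quotient.eq.2 ?_).symm⟩
    exact ((a.2.mem_or_mem (by rw [hc z (Finset.mem_singleton_self z)]; exact zero_mem _)).resolve_left he)
  let E : k ≃ₐ[k] A ⧸ a.asIdeal := AlgEquiv.ofBijective (Algebra.ofId k _) hbij
  refine ⟨(E.symm : (A ⧸ a.asIdeal) →ₐ[k] k).comp (Ideal.Quotient.mkₐ k a.asIdeal), ?_⟩
  ext z
  rw [RingHom.mem_ker]
  show E.symm (Ideal.Quotient.mk _ z) = 0 ↔ _
  rw [EmbeddingLike.map_eq_zero_iff, Ideal.Quotient.eq_zero_iff_mem]

variable {X : Scheme.{u}} (f : X ⟶ Spec (CommRingCat.of k))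

local notation "sA" => Spec.map (CommRingCat.ofHom (algebraMap k A))

/-- the slice over a rational point -/
noncomputable def slice (ρ : A →ₐ[k] k) : X ⟶ pullback (Spec.map (CommRingCat.ofHom (algebraMap k A))) f :=
  pullback.lift (f ≫ Spec.map (CommRingCat.ofHom ρ.toRingHom)) (𝟙 X) (by
    rw [Category.assoc, ← Spec.map_comp, Category.id_comp]
    have : CommRingCat.ofHom (algebraMap k A) ≫ CommRingCat.ofHom ρ.toRingHom = 𝟙 _ := by
      ext c; exact ρ.commutes c
    rw [this, Spec.map_id, Category.comp_id])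

theorem fst_slice (ρ : A →ₐ[k] k) (x : X) :
    pullback.fst sA f (slice f ρ x) = ⟨RingHom.ker ρ, RingHom.ker_isPrime _⟩ := by
  rw [← Scheme.Hom.comp_apply, slice, pullback.lift_fst, Scheme.Hom.comp_apply]
  apply PrimeSpectrum.ext
  change Ideal.comap ρ.toRingHom (f x).asIdeal = _
  have h0 : (f x).asIdeal = ⊥ := ((f x).asIdeal.eq_bot_or_top).resolve_right (f x).2.ne_top
  rw [h0]
  rfl

theorem snd_slice (ρ : A →ₐ[k] k) (x : X) : pullback.snd sA f (slice f ρ x) = x := by
  rw [← Scheme.Hom.comp_apply, slice, pullback.lift_snd]; rfl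

theorem eq_slice (ρ : A →ₐ[k] k) (z : ↑(pullback sA f))
    (hz : (pullback.fst sA f z).asIdeal = RingHom.ker ρ) : z = slice f ρ (pullback.snd sA f z) := by
  let P := pullback sA f
  let κ := P.fromSpecResidueField z
  let σ := Spec.map (CommRingCat.ofHom ρ.toRingHom)
  haveI : IsClosedImmersion σ := IsClosedImmersion.spec_of_surjective _ fun c => ⟨algebraMap k A c, ρ.commutes c⟩
  have hr : Set.range (κ ≫ pullback.fst sA f) ⊆ Set.range σ := by
    rintro _ ⟨t, rfl⟩
    refine ⟨IsLocalRing.closedPoint k, PrimeSpectrum.ext ?_⟩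
    rw [Scheme.Hom.comp_apply, P.fromSpecResidueField_apply, hz]
    change Ideal.comap ρ.toRingHom (IsLocalRing.closedPoint k).asIdeal = _
    rw [show (IsLocalRing.closedPoint k).asIdeal = ⊥ from
      ((IsLocalRing.closedPoint k).asIdeal.eq_bot_or_top).resolve_right (IsLocalRing.closedPoint k).2.ne_top]
    rfl
  obtain ⟨h, hh⟩ := GrpSch.exists_lift_of_isImmersion σ (κ ≫ pullback.fst sA f) hr
  have hs : σ ≫ sA = 𝟙 _ := by
    rw [← Spec.map_comp]
    have : CommRingCat.ofHom (algebraMap k A) ≫ CommRingCat.ofHom ρ.toRingHom = 𝟙 _ := by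
      ext c; exact ρ.commutes c
    rw [this, Spec.map_id]
  have hκ : κ = (κ ≫ pullback.snd sA f) ≫ slice f ρ := by
    apply pullback.hom_ext
    · rw [Category.assoc, slice, pullback.lift_fst, ← hh, Category.assoc, ← pullback.condition_assoc,
        ← Category.assoc κ, ← hh, Category.assoc, reassoc_of% hs]
    · rw [Category.assoc, slice, pullback.lift_snd, Category.comp_id]
  have := congr($hκ (IsLocalRing.closedPoint _))
  simp only [Scheme.Hom.comp_apply] at this
  rwa [P.fromSpecResidueField_apply] at this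

theorem isHomeomorph (hA : ∀ s : Finset A, ∃ (B : Subalgebra k A) (n : ℕ), (↑s : Set A) ⊆ (B : Set A) ∧ Nonempty (B ≃ₐ[k] (Fin n → k))) :
    IsHomeomorph (fun p : ↑(pullback sA f) => (pullback.fst sA f p, pullback.snd sA f p)) := by
  classical
  have hbij : Function.Bijective (fun p : ↑(pullback sA f) => (pullback.fst sA f p, pullback.snd sA f p)) := by
    refine ⟨fun p p' e => ?_, fun ⟨a, x⟩ => ?_⟩
    · obtain ⟨e1, e2⟩ := Prod.ext_iff.1 e
      obtain ⟨ρ, hρ⟩ := exists_point hA (pullback.fst sA f p)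
      rw [eq_slice f ρ p hρ.symm, eq_slice f ρ p' ((congrArg PrimeSpectrum.asIdeal e1.symm).trans hρ.symm)]
      exact congrArg _ e2
    · obtain ⟨ρ, hρ⟩ := exists_point hA a
      exact ⟨slice f ρ x, Prod.ext ((fst_slice f ρ x).trans (PrimeSpectrum.ext hρ)) (snd_slice f ρ x)⟩
  refine ⟨(pullback.fst sA f).continuous.prodMk (pullback.snd sA f).continuous, ?_, hbij⟩
  intro W hW
  rw [isOpen_iff_forall_mem_open]
  rintro _ ⟨p, hp, rfl⟩
  obtain ⟨ρ, hρ⟩ := exists_point hA (pullback.fst sA f p)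
  set x := pullback.snd sA f p with hx
  obtain ⟨_, ⟨U, hU, rfl⟩, hxU, -⟩ := X.isBasis_affineOpens.exists_subset_of_mem_open (Set.mem_univ x) isOpen_univ
  let φ : CommRingCat.of k ⟶ Γ(X, U) := Spec.preimage (hU.fromSpec ≫ f)
  have hφ : Spec.map φ = hU.fromSpec ≫ f := Spec.map_preimage _
  let _ : Algebra k Γ(X, U) := φ.hom.toAlgebra
  let j : Spec (CommRingCat.of (A ⊗[k] Γ(X, U))) ⟶ pullback sA f :=
    (pullbackSpecIso k A Γ(X, U)).inv ≫ pullback.map _ _ _ _ (𝟙 _) hU.fromSpec (𝟙 _)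
      (by simp) (by rw [Category.comp_id]; exact hφ)
  let ev : (A →ₐ[k] k) → (A ⊗[k] Γ(X, U) →ₐ[k] Γ(X, U)) := fun r =>
    Algebra.TensorProduct.lift ((Algebra.ofId k _).comp r) (AlgHom.id k _) (fun _ _ => Commute.all _ _)
  have hj : ∀ r : A →ₐ[k] k, Spec.map (CommRingCat.ofHom (ev r).toRingHom) ≫ j = hU.fromSpec ≫ slice f r := by
    intro r
    apply pullback.hom_ext
    · simp only [j, slice, Category.assoc, pullback.lift_fst, pullback.lift_fst_assoc, Category.comp_id,
        pullbackSpecIso_inv_fst]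
      rw [← Spec.map_comp, ← Category.assoc, ← hφ, ← Spec.map_comp]
      congr 1
      ext z
      simp [ev]
      rfl
    · simp only [j, slice, Category.assoc, pullback.lift_snd, pullback.lift_snd_assoc, Category.comp_id,
        pullbackSpecIso_inv_snd_assoc]
      rw [← Category.assoc, ← Spec.map_comp]
      have h1 : CommRingCat.ofHom (Algebra.TensorProduct.includeRight : Γ(X, U) →ₐ[k] A ⊗[k] Γ(X, U)).toRingHom ≫
          CommRingCat.ofHom (ev r).toRingHom = 𝟙 _ := by
        ext b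
        simp [ev]
      exact (congrArg (· ≫ hU.fromSpec) ((congrArg Spec.map h1).trans (Spec.map_id _))).trans
        ((Category.id_comp _).trans (Category.comp_id _).symm)
  set x' := hU.primeIdealOf ⟨x, hxU⟩
  have hx' : hU.fromSpec x' = x := hU.fromSpec_primeIdealOf ⟨x, hxU⟩
  have hp' : p = slice f ρ x := eq_slice f ρ p hρ.symm
  set w := Spec.map (CommRingCat.ofHom (ev ρ).toRingHom) x'
  have hw : j w = p := by
    rw [hp', ← hx', ← Scheme.Hom.comp_apply, ← Scheme.Hom.comp_apply, hj]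
  obtain ⟨_, ⟨t, rfl⟩, htw, htW⟩ := PrimeSpectrum.isTopologicalBasis_basic_opens.exists_subset_of_mem_open
    (show w ∈ j ⁻¹' W from (show j w ∈ W by rw [hw]; exact hp)) (hW.preimage j.continuous)
  obtain ⟨S, rfl⟩ := TensorProduct.exists_finset t
  obtain ⟨e, c, he, hc⟩ := exists_idem hA (pullback.fst sA f p).asIdeal (S.image Prod.fst)
  set b := ev ρ (S.sum fun i => i.1 ⊗ₜ[k] i.2) with hb
  have hconst : ∀ r : A →ₐ[k] k, r e ≠ 0 → ev r (S.sum fun i => i.1 ⊗ₜ[k] i.2) = S.sum fun i => c i.1 • i.2 := by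
    intro r hr
    rw [map_sum]
    refine Finset.sum_congr rfl fun i hi => ?_
    have h1 := congrArg r (hc i.1 (Finset.mem_image_of_mem _ hi))
    rw [map_mul, map_sub, map_zero, AlgHom.commutes, mul_eq_zero, sub_eq_zero] at h1
    simp [ev, h1.resolve_left hr, Algebra.smul_def]
  have hρe : ρ e ≠ 0 := fun h => he (hρ ▸ (RingHom.mem_ker.2 h))
  refine ⟨(PrimeSpectrum.basicOpen e : Set (PrimeSpectrum A)) ×ˢ (X.basicOpen b : Set X), ?_,
    (PrimeSpectrum.basicOpen e).isOpen.prod (X.basicOpen b).isOpen, ⟨he, ?_⟩⟩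
  · rintro ⟨a', y⟩ ⟨ha', hy⟩
    obtain ⟨r, hr⟩ := exists_point hA a'
    have hre : r e ≠ 0 := fun h => ha' (hr ▸ (RingHom.mem_ker.2 h))
    refine ⟨slice f r y, ?_, Prod.ext ((fst_slice f r y).trans (PrimeSpectrum.ext hr)) (snd_slice f r y)⟩
    have hyU : y ∈ U := X.basicOpen_le b hy
    have e1 : slice f r y = slice f r (hU.fromSpec (hU.primeIdealOf ⟨y, hyU⟩)) := by
      rw [hU.fromSpec_primeIdealOf]
    rw [e1, ← Scheme.Hom.comp_apply, ← hj, Scheme.Hom.comp_apply]
    refine htW ?_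
    show ev r (S.sum fun i => i.1 ⊗ₜ[k] i.2) ∉ (hU.primeIdealOf ⟨y, hyU⟩).asIdeal
    rw [hconst r hre, ← hconst ρ hρe, ← hb]
    have h2 : hU.primeIdealOf ⟨y, hyU⟩ ∈ hU.fromSpec ⁻¹ᵁ X.basicOpen b := by
      show hU.fromSpec _ ∈ X.basicOpen b
      rw [hU.fromSpec_primeIdealOf]; exact hy
    rwa [hU.fromSpec_preimage_basicOpen] at h2
  · show x ∈ X.basicOpen b
    rw [← hx']
    show x' ∈ hU.fromSpec ⁻¹ᵁ X.basicOpen b
    rw [hU.fromSpec_preimage_basicOpen]
    exact htw

end Groth.Agent.ProfinAlg
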